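import Groth.Agent.AmpleX.Generated
import Groth.Agent.AmpleX.Proj
import Groth.Agent.AmpleX.QAGenerated
import Groth.Agent.ProjUPX.Unique
import Groth.Agent.InvX.GenLocusPull
import Groth.Agent.H23.TrivBasic
import Groth.Agent.PnCoh.Chow.Proper
import Groth.Agent.S3572
import Groth.Agent.SegreX.Basic
import Groth.Agent.H23.PicMul

/-!
A proper scheme over an affine base with an ample invertible module embeds into projective space.
-/

set_option linter.style.haveILetI false
set_option linter.unusedSectionVars false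
set_option backward.isDefEq.respectTransparency false
set_option backward.isDefEq.respectTransparency.types false
set_option maxHeartbeats 800000

universe u

open CategoryTheory CategoryTheory.Limits AlgebraicGeometry TopologicalSpace HomogeneousLocalization

namespace Groth.Agent.AmpleEmbed

open Groth.Agent Groth.Agent.InvX Groth.Agent.H23
open scoped Groth.Agent.H23.PicMul

theorem iSup_basicOpen_X (n : ℕ) (R : Type u) [CommRing R] :
    ⨆ i : Fin (n + 1), Proj.basicOpen (CohB1.polyGrading n R) (MvPolynomial.X i) = ⊤ :=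
  Proj.iSup_basicOpen_eq_top _ _ (SegreX.irrelevant_le_span n R)

/-- The preimage of a coordinate chart is the locus of the matching section. -/
theorem preimage_chart {R : Type u} [CommRing R] {n : ℕ} {X : Scheme.{u}} (r : X ⟶ CohB1.ProjSpace n R)
    {L : X.Modules} (τ : (Scheme.Modules.pullback r).obj (Twist.twistProjSpace n R 1) ≅ L) (i : Fin (n + 1))
    {s : Γ(L, ⊤)}
    (hτ : τ.hom.app ⊤ (ProjUP.pullSec r (Twist.twistProjSpace n R 1) (ProjUP.coord n R i)) = s) :
    r ⁻¹ᵁ Proj.basicOpen (CohB1.polyGrading n R) (MvPolynomial.X i) = TrivBasic.locus s := by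
  have hi : (MvPolynomial.X i : MvPolynomial (Fin (n + 1)) R) ∈ CohB1.polyGrading n R 1 := ProjPt.X_mem i
  have hN : PicF.IsInvertible (Twist.twistProjSpace n R 1) :=
    PnCoh.Finite.isInvertible_twist (fun j : ULift.{u} (Fin (n + 1)) => MvPolynomial.X j.down)
      (fun j => ProjPt.X_mem j.down) (by
        refine top_le_iff.1 ((iSup_basicOpen_X n R).ge.trans (iSup_le fun j => ?_))
        exact le_iSup_of_le (ULift.up j) le_rfl) 1
  have h1 : TrivBasic.locus (ProjUPX.sec (CohB1.polyGrading n R) hi) =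
      Proj.basicOpen (CohB1.polyGrading n R) (MvPolynomial.X i) :=
    AmpleX.genLocus_sec (CohB1.polyGrading n R) (fun j : Fin (n + 1) => MvPolynomial.X j)
      (fun j => ProjPt.X_mem j) (iSup_basicOpen_X n R) hi
  rw [← h1, ← TrivBasic.locus_pullElt hN r, ← hτ]
  show CohB1.genLocus _ (ofSect _) = CohB1.genLocus _ (ofSect _)
  refine (genLocus_comp_iso _ τ).symm.trans (le_antisymm ?_ ?_) <;>
    exact le_of_eq (congrArg (CohB1.genLocus _) (by
      refine sub_eq_zero.1 (AmpleX.eq_zero_of_one_eq_zero _ ?_)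
      first
        | (show τ.hom.app ⊤ (one (ofSect _)) - one (ofSect _) = 0; rw [one_ofSect, one_ofSect]; exact sub_self _)
        | (show one (ofSect _) - τ.hom.app ⊤ (one (ofSect _)) = 0; rw [one_ofSect, one_ofSect]; exact sub_self _)))

/-- The ratio of two coordinates pulls back to the ratio of the matching sections. -/
theorem ratioOf_eq {R : Type u} [CommRing R] {n : ℕ} {X : Scheme.{u}} (r : X ⟶ CohB1.ProjSpace n R)
    {L : X.Modules} (τ : (Scheme.Modules.pullback r).obj (Twist.twistProjSpace n R 1) ≅ L) (i l : Fin (n + 1))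
    {si sl : Γ(L, ⊤)}
    (hi : τ.hom.app ⊤ (ProjUP.pullSec r (Twist.twistProjSpace n R 1) (ProjUP.coord n R i)) = si)
    (hl : τ.hom.app ⊤ (ProjUP.pullSec r (Twist.twistProjSpace n R 1) (ProjUP.coord n R l)) = sl)
    {W : X.Opens} (h : W ≤ r ⁻¹ᵁ Proj.basicOpen (CohB1.polyGrading n R) (MvPolynomial.X i)) (b : Γ(X, W))
    (hb : AModX.res L (le_top : W ≤ ⊤) sl = b • AModX.res L (le_top : W ≤ ⊤) si) :
    ProjUPX.ratioOf r (ProjPt.X_mem l) (ProjPt.X_mem i) h = b := by
  have h1 := congrArg (τ.hom.app W) (ProjUPX.res_pullG r (ProjPt.X_mem (R := R) l) (ProjPt.X_mem i) h)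
  rw [Scheme.Modules.Hom.app_smul] at h1
  have e : ∀ x, τ.hom.app W (AModX.res ((Scheme.Modules.pullback r).obj (Twist.twistProjSpace n R 1)) (le_top : W ≤ ⊤) x) =
      AModX.res L (le_top : W ≤ ⊤) (τ.hom.app ⊤ x) := fun x => AModX.app_res τ.hom _ x
  have h1' : AModX.res L (le_top : W ≤ ⊤) sl = ProjUPX.ratioOf r (ProjPt.X_mem l) (ProjPt.X_mem i) h • AModX.res L (le_top : W ≤ ⊤) si := by
    rw [← hl, ← hi, ← e, ← e]
    exact h1
  have hfr : IsFrame (AModX.res L (le_top : W ≤ ⊤) si) :=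
    TrivBasic.isFrame_res_of_le_locus (h.trans (preimage_chart r τ i hi).le)
  exact hfr.coord_unique le_rfl (by rw [AModX.res_self, ← h1', hb])

/-- Ample gives a closed immersion into projective space, with hyperplane class a positive power. -/
theorem exists_closedImmersion_pow {R : Type u} [CommRing R] {X : Scheme.{u}} (f : X ⟶ Spec (CommRingCat.of R))
    [IsProper f] {L₀ : X.Modules} (hL₀ : CohB1.IsAmple L₀) :
    ∃ (n : ℕ) (r : X ⟶ CohB1.ProjSpace n R), IsClosedImmersion r ∧ r ≫ CohB1.ProjSpace.toSpec n R = f ∧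
      (IsEmpty X ∨ ∃ m, 0 < m ∧ Nonempty ((Scheme.Modules.pullback r).obj (Twist.twistProjSpace n R 1) ≅
        CohB1.tensorPow L₀ m)) := by
  classical
  haveI : CompactSpace X := hL₀.2.1
  haveI : X.IsSeparated := ⟨by
    rw [← Limits.terminal.comp_from f]
    infer_instance⟩
  obtain ⟨a, ha, κ, _, σ, haff, -, hcov⟩ := AmpleX.exists_cover_genLocus hL₀
  let L := CohB1.tensorPow L₀ a
  have hL : PicF.IsInvertible L := InvX.isInvertible_tensorPow hL₀.1 a
  let U : κ → X.Opens := fun i => CohB1.genLocus L (σ i)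
  let φ : ∀ i, R →+* Γ(X, U i) := fun i =>
    (f.appLE ⊤ (U i) le_top).hom.comp (Scheme.ΓSpecIso (CommRingCat.of R)).inv.hom
  have hft : ∀ i, (φ i).FiniteType := fun i =>
    (f.finiteType_appLE (isAffineOpen_top _) (haff i) le_top).comp
      (RingHom.FiniteType.of_surjective _
        (ConcreteCategory.bijective_of_isIso (Scheme.ΓSpecIso (CommRingCat.of R)).inv).2)
  have hgen : ∀ i, ∃ G : Finset Γ(X, U i), ∀ S : Subring Γ(X, U i), Set.range (φ i) ⊆ S → (G : Set Γ(X, U i)) ⊆ S → S = ⊤ :=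
    fun i => by
    letI := (φ i).toAlgebra
    obtain ⟨G, hG⟩ := (show Algebra.FiniteType R Γ(X, U i) from hft i).out
    refine ⟨G, fun S h1 h2 => top_le_iff.1 fun x hx0 => ?_⟩
    clear hx0
    have hx : x ∈ Algebra.adjoin R (G : Set Γ(X, U i)) := hG ▸ Algebra.mem_top
    induction hx using Algebra.adjoin_induction with
    | mem y hy => exact h2 hy
    | algebraMap c => exact h1 ⟨c, rfl⟩
    | add y z _ _ hy hz => exact S.add_mem hy hz
    | mul y z _ _ hy hz => exact S.mul_mem hy hz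
  choose G hG using hgen
  have hO : Coh.IsQCoh (Coh.structureModule X) := AmpleX.isQCoh_one X
  choose n₀ hn₀ using fun p : Σ i, G i => AmpleX.exists_extend hO hL (σ p.1)
    (show Γ(Coh.structureModule X, U p.1) from (p.2.1 : Γ(X, U p.1)))
  let N := Finset.univ.sup n₀
  choose T hT using fun p : Σ i, G i => hn₀ p (N + 1) ((Finset.le_sup (Finset.mem_univ p)).trans N.le_succ)
  let M := CohB1.tensorMod (Coh.structureModule X) (CohB1.tensorPow L (N + 1))
  have hM : PicF.IsInvertible M :=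
    InvX.isInvertible_tensorMod InvX.isInvertible_structureModule (InvX.isInvertible_tensorPow hL _)
  let S : κ → Γ(M, ⊤) := fun i =>
    tmul (show Γ(Coh.structureModule X, ⊤) from (1 : Γ(X, ⊤))) (AmpleX.powElt (one (σ i)) (N + 1))
  have hS : ∀ i, TrivBasic.locus (S i) = U i := fun i => by
    have h := genLocus_mulHom InvX.isInvertible_structureModule (InvX.isInvertible_tensorPow hL (N + 1))
      (ofSect (show Γ(Coh.structureModule X, ⊤) from (1 : Γ(X, ⊤)))) (powHom (σ i) (N + 1))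
    rw [genLocus_powHom hL] at h
    have h1 : CohB1.genLocus _ (ofSect (show Γ(Coh.structureModule X, ⊤) from (1 : Γ(X, ⊤)))) = ⊤ :=
      TrivBasic.locus_eq_top_iff.2 (isFrame_one ⊤)
    rw [h1, top_inf_eq] at h
    refine Eq.trans ?_ h
    show CohB1.genLocus _ (ofSect (S i)) = CohB1.genLocus _ (ofSect _)
    rw [one_ofSect, AmpleX.one_powHom]
  rcases isEmpty_or_nonempty X with hX | ⟨⟨x₀⟩⟩
  · obtain ⟨r, hr, -, -⟩ := S3572.result 0 f (Coh.structureModule X) InvX.isInvertible_structureModule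
      (fun _ => (0 : Γ(Coh.structureModule X, ⊤))) fun x => (hX.false x).elim
    exact ⟨0, r, inferInstance, hr, Or.inl hX⟩
  obtain ⟨n, ⟨e⟩⟩ : ∃ n, Nonempty (Fin (n + 1) ≃ κ ⊕ Σ i, G i) := by
    obtain ⟨i, -⟩ := hcov x₀
    haveI : Nonempty (κ ⊕ Σ i, G i) := ⟨Sum.inl i⟩
    obtain ⟨n, hn⟩ := Nat.exists_eq_add_one.2 (Fintype.card_pos (α := κ ⊕ Σ i, G i))
    exact ⟨n, ⟨((finCongr hn.symm).trans (Fintype.equivFin _).symm)⟩⟩
  let s : Fin (n + 1) → Γ(M, ⊤) := fun j => Sum.elim S T (e j)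
  have hs : ProjUP.GeneratedBy M s := fun x => by
    obtain ⟨i, hi⟩ := hcov x
    have hxi : x ∈ TrivBasic.locus (S i) := by rw [hS]; exact hi
    refine eq_top_iff.2 fun z _ => ?_
    obtain ⟨c, hc⟩ := ((TrivBasic.isFrame_res_of_le_locus (le_refl (TrivBasic.locus (S i)))).germ_bijective hxi).2 z
    rw [← hc]
    refine Submodule.smul_mem _ c (Submodule.subset_span ⟨e.symm (Sum.inl i), ?_⟩)
    show (M.presheaf.germ ⊤ x trivial).hom (Sum.elim S T (e (e.symm _))) = _
    rw [Equiv.apply_symm_apply]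
    exact (InvX.germ_res' (le_top : TrivBasic.locus (S i) ≤ ⊤) hxi (S i)).symm
  obtain ⟨r, hr, τ, hτ⟩ := S3572.result n f M hM s hs
  refine ⟨n, r, ?_, hr, Or.inr ⟨a * (N + 1), Nat.mul_pos ha N.succ_pos, ?_⟩⟩
  swap
  · refine H23.PicMul.cl_eq_iff.1 ?_
    rw [(PicGrp.cl_eq_cl_iff _ M).2 ⟨τ⟩, H23.PicMul.cl_tensorPow, pow_mul, ← H23.PicMul.cl_tensorPow L₀ a,
      ← H23.PicMul.cl_tensorPow L (N + 1), H23.PicMul.cl_tensor, ← H23.PicMul.one_def, one_mul]
  haveI hp : IsProper (CohB1.ProjSpace.toSpec n R) := PnCoh.Chow.isProper_toSpec n R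
  haveI : IsProper r := by
    haveI : IsProper (r ≫ CohB1.ProjSpace.toSpec n R) := hr ▸ ‹IsProper f›
    exact IsProper.of_comp r (CohB1.ProjSpace.toSpec n R)
  let D : κ → (CohB1.ProjSpace n R).Opens := fun i =>
    Proj.basicOpen (CohB1.polyGrading n R) (MvPolynomial.X (e.symm (Sum.inl i)))
  have hτS : ∀ i, τ.hom.app ⊤ (ProjUP.pullSec r _ (ProjUP.coord n R (e.symm (Sum.inl i)))) = S i := fun i => by
    rw [hτ]; show Sum.elim S T _ = _; rw [Equiv.apply_symm_apply]; rfl
  have hτT : ∀ p, τ.hom.app ⊤ (ProjUP.pullSec r _ (ProjUP.coord n R (e.symm (Sum.inr p)))) = T p := fun p => by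
    rw [hτ]; show Sum.elim S T _ = _; rw [Equiv.apply_symm_apply]; rfl
  have hpre : ∀ i, r ⁻¹ᵁ D i = U i := fun i => (preimage_chart r τ _ (hτS i)).trans (hS i)
  have hDaff : ∀ i, IsAffineOpen (D i) := fun i => Proj.isAffineOpen_basicOpen _ _ (ProjPt.X_mem _) one_pos
  have hloc : ∀ i, IsClosedImmersion (r ∣_ D i) := fun i => by
    haveI : IsAffine (D i : Scheme) := hDaff i
    haveI : IsAffine (r ⁻¹ᵁ D i : Scheme) := by rw [hpre]; exact haff i
    refine IsClosedImmersion.of_surjective_of_isAffine _ ?_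
    have hsurj : Function.Surjective (r.appLE (D i) (U i) (hpre i).ge) := by
      refine RingHom.range_eq_top.1 (hG i _ ?_ ?_)
      · rintro _ ⟨c, rfl⟩
        refine ⟨(CohB1.ProjSpace.toSpec n R).appLE ⊤ (D i) le_top ((Scheme.ΓSpecIso (CommRingCat.of R)).inv c), ?_⟩
        rw [← CommRingCat.comp_apply, Scheme.Hom.appLE_comp_appLE]
        simp only [hr]
        rfl
      · intro b hb
        refine ⟨(Proj.awayToSection (CohB1.polyGrading n R) (MvPolynomial.X (e.symm (Sum.inl i)))).hom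
          (Away.mk (CohB1.polyGrading n R) (ProjPt.X_mem _) 1 (MvPolynomial.X (e.symm (Sum.inr ⟨i, b, hb⟩)))
            (by rw [one_smul]; exact ProjPt.X_mem _)), ?_⟩
        refine ratioOf_eq r τ _ _ (hτS i) (hτT ⟨i, b, hb⟩) (hpre i).ge b ?_
        refine (hT ⟨i, b, hb⟩).trans ?_
        rw [res_tmul, AmpleX.res_powElt, show AModX.res (Coh.structureModule X) (le_top : U i ≤ ⊤)
          (show Γ(Coh.structureModule X, ⊤) from (1 : Γ(X, ⊤))) = (1 : Γ(X, U i)) from map_one (AModX.resR _)]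
        rw [← tmul_smul_left]
        congr 1
        exact (mul_one b).symm
    intro z
    rw [morphismRestrict_appTop]
    obtain ⟨y, hy⟩ := hsurj (X.presheaf.map (eqToHom (hpre i).symm).op
      ((r ⁻¹ᵁ D i).topIso.hom z))
    refine ⟨(D i).topIso.inv y, (ConcreteCategory.bijective_of_isIso (r ⁻¹ᵁ D i).topIso.hom).1 ?_⟩
    apply (ConcreteCategory.bijective_of_isIso (X.presheaf.map (eqToHom (hpre i).symm).op)).1
    rw [← hy]
    simp only [← CommRingCat.comp_apply]
    congr 2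
    simp only [Scheme.Hom.appLE, Scheme.Opens.topIso, Category.assoc]
    simp [← Functor.map_comp]
    rw [r.naturality_assoc, ← Functor.map_comp]
    rfl
  let E : (CohB1.ProjSpace n R).Opens := ⟨(Set.range r)ᶜ, r.isClosedMap.isClosed_range.isOpen_compl⟩
  have hE : IsClosedImmersion (r ∣_ E) := by
    haveI : IsEmpty (r ⁻¹ᵁ E : Scheme) := ⟨fun x => x.2 ⟨x.1, rfl⟩⟩
    infer_instance
  refine IsZariskiLocalAtTarget.of_iSup_eq_top (P := @IsClosedImmersion) (fun o : Option κ => o.elim E D) ?_ ?_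
  · refine top_le_iff.1 fun y _ => ?_
    by_cases hy : y ∈ Set.range r
    · obtain ⟨x, rfl⟩ := hy
      obtain ⟨i, hi⟩ := hcov x
      exact Opens.mem_iSup.2 ⟨some i, show x ∈ r ⁻¹ᵁ D i from (hpre i).ge hi⟩
    · exact Opens.mem_iSup.2 ⟨none, hy⟩
  · rintro (_ | i)
    · exact hE
    · exact hloc i

/-- Ample gives a closed immersion into projective space. -/
theorem exists_closedImmersion {R : Type u} [CommRing R] {X : Scheme.{u}} (f : X ⟶ Spec (CommRingCat.of R))
    [IsProper f] {L₀ : X.Modules} (hL₀ : CohB1.IsAmple L₀) :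
    ∃ (n : ℕ) (r : X ⟶ CohB1.ProjSpace n R), IsClosedImmersion r ∧ r ≫ CohB1.ProjSpace.toSpec n R = f := by
  obtain ⟨n, r, h1, h2, -⟩ := exists_closedImmersion_pow f hL₀
  exact ⟨n, r, h1, h2⟩

end Groth.Agent.AmpleEmbed
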